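import Cfsg.Agent.H387.VO.Main
import Cfsg.Agent.H713.Engine
import Cfsg.Agent.H678.DG.McLDeg
import Cfsg.Agent.H455.ElemS

/-!
# S4987, sporadic row `McL`, `p = 5`

`McL` has an irreducible character of degree `4500 = 36 * 5 ^ 3` (helper678), hence of 5-defect zero.
-/

set_option autoImplicit false

namespace Cfsg.Agent.H681.Van.McLFive

open Cfsg Cfsg.Agent.H904.McLCent Cfsg.Agent.McLType.X275 Cfsg.Agent.McLType.Gens

universe u

theorem hasDZ_of_equiv {S K : Type*} [Group S] [Group K] (f : S ≃* K) {p n d : ℕ} (hp : p.Prime)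
    (hc : (Nat.card K).factorization p = n) (hd : p ^ n ∣ d) (hK : Nat.card K ≠ 0)
    (h : ∃ χ : IrrCharacter K, charDegree (χ : K → ℂ) = d) : Cfsg.Agent.H665.NoPQ.HasDZ p S := by
  have : Finite K := Nat.finite_of_card_ne_zero hK
  obtain ⟨χ, hχ⟩ := h
  have h1 : Cfsg.Agent.H665.NoPQ.HasDZ p K := by
    refine ⟨χ, le_antisymm ?_ ?_⟩
    · exact (Nat.factorization_le_iff_dvd (Blocks.Basic.charDegree_pos χ.2).ne' Nat.card_pos.ne').2
        (Cfsg.Agent.Blocks.Knorr.charDegree_dvd χ.2) p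
    · rw [hc]
      exact (hp.pow_dvd_iff_le_factorization (Blocks.Basic.charDegree_pos χ.2).ne').1 (by rw [hχ]; exact hd)
  exact Cfsg.Agent.H713.HasDZ.mulEquiv f.symm h1

/-- 5-defect zero -/
theorem hasDZ_five {K : Type u} [Group K] (h : Spor.IsoMcL K) : Cfsg.Agent.H665.NoPQ.HasDZ 5 K := by
  obtain ⟨θ, R⟩ := exists_rep h
  have hc := Cfsg.Agent.H678.DG.McLDeg.card_K0
  let f : K ≃* K0 := (MonoidHom.ofInjective R.inj).trans (MulEquiv.subgroupCongr R.range)
  refine hasDZ_of_equiv f (n := 3) (d := 4500) (by norm_num) ?_ (by norm_num) (by rw [hc]; norm_num)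
    Cfsg.Agent.H678.DG.McLDeg.deg_4500
  rw [hc, show 898128000 = 5 ^ 3 * 7185024 by norm_num]
  rw [Nat.factorization_mul (by norm_num) (by norm_num), Nat.Prime.factorization_pow (by norm_num)]
  rw [Finsupp.add_apply, Finsupp.single_eq_same, Nat.factorization_eq_zero_of_not_dvd (by norm_num)]

/-- 3-defect zero -/
theorem hasDZ_three {K : Type u} [Group K] (h : Spor.IsoMcL K) : Cfsg.Agent.H665.NoPQ.HasDZ 3 K := by
  obtain ⟨θ, R⟩ := exists_rep h
  have hc := Cfsg.Agent.H678.DG.McLDeg.card_K0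
  let f : K ≃* K0 := (MonoidHom.ofInjective R.inj).trans (MulEquiv.subgroupCongr R.range)
  refine hasDZ_of_equiv f (n := 6) (d := 5103) (by norm_num) ?_ (by norm_num) (by rw [hc]; norm_num)
    Cfsg.Agent.H678.DG.McLDeg.deg_5103
  rw [hc, show 898128000 = 3 ^ 6 * 1232000 by norm_num]
  rw [Nat.factorization_mul (by norm_num) (by norm_num), Nat.Prime.factorization_pow (by norm_num)]
  rw [Finsupp.add_apply, Finsupp.single_eq_same, Nat.factorization_eq_zero_of_not_dvd (by norm_num)]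

/-- **S4987, `McL`, `p = 5`.** -/
theorem two_mcl_p {K : Type u} [Group K] (h : Spor.IsoMcL K) : Cfsg.Agent.H387.VO.TwoVan 5 K := by
  have hf : Finite K := by
    obtain ⟨θ, R⟩ := exists_rep h
    let f : K ≃* K0 := (MonoidHom.ofInjective R.inj).trans (MulEquiv.subgroupCongr R.range)
    have : Finite K0 := Nat.finite_of_card_ne_zero (by rw [Cfsg.Agent.H678.DG.McLDeg.card_K0]; norm_num)
    exact Finite.of_equiv _ f.symm.toEquiv
  have h5 : Fact (Nat.Prime 5) := ⟨by norm_num⟩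
  obtain ⟨x, hx⟩ := Cfsg.Agent.H455.ElemS.mcl_thirty h
  have hy : orderOf (x ^ 3) = 10 := by
    rw [orderOf_pow, hx]; norm_num
  exact Cfsg.Agent.H387.VO.TwoVan.of_order (x := x) (y := x ^ 3) (by rw [hx]; norm_num) (by rw [hy]; norm_num)
    (Cfsg.Agent.H713.HasDZ.vz (hasDZ_five h) (by rw [hx]; norm_num))
    (Cfsg.Agent.H713.HasDZ.vz (hasDZ_five h) (by rw [hy]; norm_num)) (by rw [hx, hy]; norm_num)

end Cfsg.Agent.H681.Van.McLFive
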