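import Cfsg.Agent.H681.Van.McLFive
import Cfsg.Agent.H678.DG.Tits
import Cfsg.Agent.H604.Sax.Tits

/-!
# S4987, row of the Tits group, `p = 5`

The Tits group has an irreducible character of degree `650 = 26 * 5 ^ 2` (helper678), hence of 5-defect zero.
-/

set_option autoImplicit false

namespace Cfsg.Agent.H681.Van.TitsFive

open Cfsg

universe u

theorem finite_tits {K : Type u} [Group K] (h : Lie.IsoTits K) : Finite K := by
  obtain ⟨e⟩ := h
  obtain ⟨f⟩ := H707.RowTits.equiv
  have hc := Cfsg.Agent.SporadicB.RuTits.card_T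
  have : Finite Cfsg.Agent.SporadicB.RuTits.T := Nat.finite_of_card_ne_zero (by rw [hc]; norm_num)
  exact Finite.of_equiv _ (e.trans f).symm.toEquiv

/-- 5-defect zero -/
theorem hasDZ_five {K : Type u} [Group K] (h : Lie.IsoTits K) : Cfsg.Agent.H665.NoPQ.HasDZ 5 K := by
  obtain ⟨e⟩ := h
  obtain ⟨f⟩ := H707.RowTits.equiv
  have hc := Cfsg.Agent.SporadicB.RuTits.card_T
  refine McLFive.hasDZ_of_equiv (e.trans f) (n := 2) (d := 650) (by norm_num) ?_ (by norm_num) (by rw [hc]; norm_num)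
    Cfsg.Agent.H678.DG.Tits.deg_650
  rw [hc, show 17971200 = 5 ^ 2 * 718848 by norm_num]
  rw [Nat.factorization_mul (by norm_num) (by norm_num), Nat.Prime.factorization_pow (by norm_num)]
  rw [Finsupp.add_apply, Finsupp.single_eq_same, Nat.factorization_eq_zero_of_not_dvd (by norm_num)]

/-- **S4987, Tits group, `p = 5`.** -/
theorem two_tits_p {K : Type u} [Group K] (h : Lie.IsoTits K) : Cfsg.Agent.H387.VO.TwoVan 5 K := by
  have hf := finite_tits h
  have h5 : Fact (Nat.Prime 5) := ⟨by norm_num⟩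
  obtain ⟨x, hx⟩ := Cfsg.Agent.H604.Sax.exists_ten_tits h
  have hy : orderOf (x ^ 2) = 5 := by
    rw [orderOf_pow, hx]; norm_num
  exact Cfsg.Agent.H387.VO.TwoVan.of_order (x := x) (y := x ^ 2) (by rw [hx]; norm_num) (by rw [hy])
    (Cfsg.Agent.H713.HasDZ.vz (hasDZ_five h) (by rw [hx]; norm_num))
    (Cfsg.Agent.H713.HasDZ.vz (hasDZ_five h) (by rw [hy])) (by rw [hx, hy]; norm_num)

end Cfsg.Agent.H681.Van.TitsFive
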